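import Groth.Agent.AlgSpB.ClosedUnion.Union
import Groth.Agent.AlgSpB.GrpField.FibreCover
import Groth.Agent.AlgSp.PointsMor
import Groth.Agent.AlgSpB.RedInduced
import Groth.Agent.AlgSpEN.Induction
import Groth.Agent.S10045

/-!
# Minimal non-schemes are reduced and irreducible
-/

universe u

open CategoryTheory CategoryTheory.Limits AlgebraicGeometry Opposite TopologicalSpace

set_option backward.isDefEq.respectTransparency false
set_option backward.isDefEq.respectTransparency.types false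
set_option autoImplicit false

namespace Groth.Agent.AlgSpB.ClosedUnion

open _root_.AlgSp Groth.Agent.AlgSp Groth.Agent.AlgSp.SchImageRep

/-- Affine neighbourhoods in two schemes with the same trace on a common closed subscheme. -/
theorem exists_affineOpens_trace {P T₁ T₂ : Scheme.{u}} (p₁ : P ⟶ T₁) (p₂ : P ⟶ T₂) [IsClosedImmersion p₁]
    [IsClosedImmersion p₂] (w : P) :
    ∃ (W₁ : T₁.Opens) (W₂ : T₂.Opens), IsAffineOpen W₁ ∧ IsAffineOpen W₂ ∧ p₁ w ∈ W₁ ∧ p₂ w ∈ W₂ ∧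
      p₁ ⁻¹ᵁ W₁ = p₂ ⁻¹ᵁ W₂ := by
  obtain ⟨A₁, hA₁, hw₁, -⟩ := exists_isAffineOpen_mem_and_subset (x := p₁ w) (U := ⊤) trivial
  obtain ⟨A₂, hA₂, hw₂, -⟩ := exists_isAffineOpen_mem_and_subset (x := p₂ w) (U := ⊤) trivial
  obtain ⟨g₁, hg₁, hwg₁⟩ := (hA₁.preimage p₁).exists_basicOpen_le (V := p₁ ⁻¹ᵁ A₁ ⊓ p₂ ⁻¹ᵁ A₂)
    ⟨w, hw₁, hw₂⟩ hw₁
  obtain ⟨h₁, rfl⟩ := p₁.app_surjective A₁ hA₁ g₁
  have hG₁ : p₁ ⁻¹ᵁ T₁.basicOpen h₁ ≤ p₂ ⁻¹ᵁ A₂ := by
    rw [Scheme.preimage_basicOpen]; exact hg₁.trans inf_le_right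
  have hwG : w ∈ p₁ ⁻¹ᵁ T₁.basicOpen h₁ := by rw [Scheme.preimage_basicOpen]; exact hwg₁
  obtain ⟨g₂, hg₂, hwg₂⟩ := (hA₂.preimage p₂).exists_basicOpen_le (V := p₁ ⁻¹ᵁ T₁.basicOpen h₁)
    ⟨w, hwG⟩ hw₂
  obtain ⟨h₂, rfl⟩ := p₂.app_surjective A₂ hA₂ g₂
  have hA₁' := hA₁.basicOpen h₁
  obtain ⟨h', hh'⟩ := p₁.app_surjective _ hA₁'
    (P.presheaf.map (homOfLE hG₁).op (p₂.app A₂ h₂))
  refine ⟨T₁.basicOpen h', T₂.basicOpen h₂, hA₁'.basicOpen h', hA₂.basicOpen h₂, ?_, ?_, ?_⟩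
  · show w ∈ p₁ ⁻¹ᵁ T₁.basicOpen h'
    rw [Scheme.preimage_basicOpen, hh', Scheme.basicOpen_res]
    exact ⟨hwG, hwg₂⟩
  · show w ∈ p₂ ⁻¹ᵁ T₂.basicOpen h₂
    rw [Scheme.preimage_basicOpen]
    exact hwg₂
  · rw [Scheme.preimage_basicOpen p₁, hh', Scheme.basicOpen_res, Scheme.preimage_basicOpen p₂, inf_eq_right]
    exact hg₂

variable {S : Scheme.{u}} {X : Space S}

theorem isReducedSp_of_open (hred : IsReducedSp X.obj) {V : Space S} (j : V ⟶ X)
    (hj : RepWith @IsOpenImmersion j.hom) : IsReducedSp V.obj := by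
  obtain ⟨W, c, hc, hcs⟩ := V.property.atlas
  exact ⟨W, c, hc, hcs, isReduced_chart X.property hred (c ≫ j.hom)
    ((repWith_isMultiplicative (S := S) @Etale).comp_mem _ _ hc
      (repWith_mono (fun f hf => (have : IsOpenImmersion f := hf; inferInstance : Etale f)) hj))⟩

/-- A scheme neighbourhood of a point outside one of two covering closed subspaces. -/
theorem exists_nhd_of_avoid (hred : IsReducedSp X.obj) {Z : Space S} (i : Z ⟶ X)
    (hi : RepWith @IsClosedImmersion i.hom) (hZ : Z.obj.obj.IsRepresentable) {C : Set (Points X.obj)} (hC : IsClosed C)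
    (hcov : Cᶜ ⊆ Set.range (Points.map i.hom)) (x : Points X.obj) (hx : x ∉ C) :
    ∃ (X' : Space S) (j : X' ⟶ X), RepWith @IsOpenImmersion j.hom ∧ X'.obj.obj.IsRepresentable ∧
      x ∈ Set.range (Points.map j.hom) := by
  obtain ⟨X', j, hj, hr⟩ := exists_openSubspace X hC.isOpen_compl
  refine ⟨X', j, hj, ?_, hr ▸ hx⟩
  obtain ⟨l, hl⟩ := exists_factor_of_reduced X'.property (isReducedSp_of_open hred j hj) hi
    (f := j.hom) (hr ▸ hcov)
  obtain ⟨T, ⟨e⟩⟩ := exists_iso_of_isRepresentable hZ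
  have : Mono j.hom := mono_of_isOpenImmersion hj
  have : Mono i.hom := mono_of_repWith (fun f hf => (have : IsClosedImmersion f := hf; inferInstance : Mono f)) _ hi
  let g := e.hom ≫ i.hom
  have hle : l ≫ e.inv ≫ g = j.hom := by rw [e.inv_hom_id_assoc, hl]
  obtain ⟨ψ, hψ⟩ := (yon S).map_surjective (𝟙 ((yon S).obj (hj.1.pullback g)))
  let k : X'.obj ⟶ (yon S).obj (hj.1.pullback g) :=
    (hj.1.isPullback g).lift (𝟙 _) (l ≫ e.inv) (by rw [Category.id_comp, Category.assoc, hle])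
  have hk : k ≫ hj.1.fst g = 𝟙 _ := (hj.1.isPullback g).lift_fst _ _ _
  refine isRepresentable_of_iso (Iso.mk (hj.1.fst g) k ?_ hk)
  apply (hj.1.isPullback g).hom_ext
  · rw [Category.assoc, hk, Category.comp_id, Category.id_comp]
  · have : Mono g := mono_comp _ _
    rw [← cancel_mono g, Category.assoc, Category.assoc, (hj.1.isPullback g).lift_snd_assoc, Category.assoc, hle,
      Category.id_comp, hj.1.w g]

/-- A scheme neighbourhood of a common point of two covering closed subspaces. -/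
theorem exists_nhd_of_common [QuasiSeparatedSpace ↥S] (hqs : IsQuasiSeparatedSp X.obj) (hred : IsReducedSp X.obj)
    {Z₁ Z₂ : Space S} (i₁ : Z₁ ⟶ X) (i₂ : Z₂ ⟶ X) (hi₁ : RepWith @IsClosedImmersion i₁.hom)
    (hi₂ : RepWith @IsClosedImmersion i₂.hom) (h₁ : Z₁.obj.obj.IsRepresentable) (h₂ : Z₂.obj.obj.IsRepresentable)
    (hcov : Set.range (Points.map i₁.hom) ∪ Set.range (Points.map i₂.hom) = Set.univ)
    (x : Points X.obj) (hx₁ : x ∈ Set.range (Points.map i₁.hom)) (hx₂ : x ∈ Set.range (Points.map i₂.hom)) :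
    ∃ (X' : Space S) (j : X' ⟶ X), RepWith @IsOpenImmersion j.hom ∧ X'.obj.obj.IsRepresentable ∧
      x ∈ Set.range (Points.map j.hom) := by
  obtain ⟨T₁, ⟨e₁⟩⟩ := exists_iso_of_isRepresentable h₁
  obtain ⟨T₂, ⟨e₂⟩⟩ := exists_iso_of_isRepresentable h₂
  let φ₁ := e₁.hom ≫ i₁.hom
  let φ₂ := e₂.hom ≫ i₂.hom
  have hφ₁ : RepWith @IsClosedImmersion φ₁ := MorphismProperty.RespectsIso.precomp _ _ _ hi₁
  have hφ₂ : RepWith @IsClosedImmersion φ₂ := MorphismProperty.RespectsIso.precomp _ _ _ hi₂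
  have hM : ∀ {F : Sp S} (f : F ⟶ X.obj), RepWith @IsClosedImmersion f → Mono f := fun f h =>
    mono_of_repWith (fun g hg => (have : IsClosedImmersion g := hg; inferInstance : Mono g)) _ h
  have := hM _ hφ₁
  have := hM _ hφ₂
  have hr : ∀ {T : Over S} {Z : Sp S} (e : (yon S).obj T ≅ Z) (i : Z ⟶ X.obj) (y : Points X.obj),
      y ∈ Set.range (Points.map i) → ∃ t, Points.ofPt (e.hom ≫ i) t = y := by
    rintro T Z e i y ⟨z, rfl⟩
    obtain ⟨t, ht⟩ := (Points.schemeEquiv T).surjective (Points.map e.inv z)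
    refine ⟨t, ?_⟩
    rw [← Points.map_ofPt e.hom i, Points.ofPt_eq_map_ofScheme e.hom]
    congr 1
    rw [show Points.ofScheme T t = Points.map e.inv z from ht, ← Points.map_comp, e.inv_hom_id, Points.map_id]
  have hinj : ∀ {T : Over S} (φ : (yon S).obj T ⟶ X.obj) [Mono φ], Function.Injective (Points.ofPt φ) := by
    intro T φ _ a b hab
    rw [Points.ofPt_eq_map_ofScheme φ a, Points.ofPt_eq_map_ofScheme φ b] at hab
    exact (Points.schemeEquiv T).injective (injective_map_of_mono φ hab)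
  obtain ⟨P, p₁, p₂, sq⟩ := exists_pullback_yon hφ₁.1 φ₂
  have hp₂ : IsClosedImmersion p₂.left := hφ₁.2 _ _ _ sq
  have hp₁ : IsClosedImmersion p₁.left := hφ₂.2 _ _ _ sq.flip
  obtain ⟨t₁, ht₁⟩ := hr e₁ i₁.hom x hx₁
  obtain ⟨t₂, ht₂⟩ := hr e₂ i₂.hom x hx₂
  obtain ⟨w, rfl, rfl⟩ := (ofPt_eq_ofPt_iff sq t₁ t₂).1 (ht₁.trans ht₂.symm)
  obtain ⟨W₁, W₂, hW₁, hW₂, hw₁, hw₂, htr⟩ := exists_affineOpens_trace p₁.left p₂.left w
  let C := Points.ofPt φ₁ '' (W₁ : Set T₁.left)ᶜ ∪ Points.ofPt φ₂ '' (W₂ : Set T₂.left)ᶜ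
  have hCl : ∀ {T : Over S} (φ : (yon S).obj T ⟶ X.obj), RepWith @IsClosedImmersion φ →
      ∀ K : Set T.left, IsClosed K → IsClosed (Points.ofPt φ '' K) := by
    intro T φ h K hK
    have : Points.ofPt φ '' K = Points.map φ '' (Points.schemeHomeo T '' K) := by
      rw [Set.image_image]
      exact Set.image_congr fun t _ => Points.ofPt_eq_map_ofScheme φ t
    rw [this]
    exact isClosedMap_map_of_repWith
      (repWith_mono (fun f hf => (have : IsClosedImmersion f := hf; inferInstance : UniversallyClosed f)) h) _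
      ((Points.schemeHomeo T).isClosedMap _ hK)
  have hC : IsClosed C := (hCl φ₁ hφ₁ _ W₁.2.isClosed_compl).union (hCl φ₂ hφ₂ _ W₂.2.isClosed_compl)
  obtain ⟨V, j, hj, hVr⟩ := exists_openSubspace X hC.isOpen_compl
  have hpre₁ : ∀ t, Points.ofPt φ₁ t ∈ Set.range (Points.map j.hom) ↔ t ∈ W₁ := fun t => by
    rw [hVr]
    refine ⟨fun h => by_contra fun ht => h (Or.inl ⟨t, ht, rfl⟩), fun ht h => ?_⟩
    rcases h with ⟨t', ht', e⟩ | ⟨t', ht', e⟩
    · exact ht' (hinj φ₁ e ▸ ht)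
    · obtain ⟨v, rfl, rfl⟩ := (ofPt_eq_ofPt_iff sq t t').1 e.symm
      exact ht' (show v ∈ p₂.left ⁻¹ᵁ W₂ from htr ▸ ht)
  have hpre₂ : ∀ t, Points.ofPt φ₂ t ∈ Set.range (Points.map j.hom) ↔ t ∈ W₂ := fun t => by
    rw [hVr]
    refine ⟨fun h => by_contra fun ht => h (Or.inr ⟨t, ht, rfl⟩), fun ht h => ?_⟩
    rcases h with ⟨t', ht', e⟩ | ⟨t', ht', e⟩
    · obtain ⟨v, rfl, rfl⟩ := (ofPt_eq_ofPt_iff sq t' t).1 e
      exact ht' (show v ∈ p₁.left ⁻¹ᵁ W₁ from htr.symm ▸ ht)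
    · exact ht' (hinj φ₂ e ▸ ht)
  have piece : ∀ {T : Over S} (φ : (yon S).obj T ⟶ X.obj), RepWith @IsClosedImmersion φ → ∀ (W : T.left.Opens),
      IsAffineOpen W → (∀ t, Points.ofPt φ t ∈ Set.range (Points.map j.hom) ↔ t ∈ W) →
      ∃ (Q : Over S) (c : (yon S).obj Q ⟶ V.obj), IsAffine Q.left ∧ RepWith @IsClosedImmersion c ∧
        ∀ v, Points.map j.hom v ∈ Set.range (Points.ofPt φ) → v ∈ Set.range (Points.map c) := by
    intro T φ hφ W hW hpre
    let sqQ := hj.1.isPullback φ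
    have : IsOpenImmersion (hj.1.snd φ).left := hj.2 _ _ _ sqQ
    have hrange : Set.range (hj.1.snd φ).left = Set.range W.ι := by
      rw [range_snd_eq sqQ, Scheme.Opens.range_ι]
      exact Set.ext hpre
    have : IsAffine W.toScheme := hW
    refine ⟨_, hj.1.fst φ, .of_isIso (IsOpenImmersion.isoOfRangeEq (hj.1.snd φ).left W.ι hrange).hom,
      MorphismProperty.of_isPullback sqQ.flip hφ, ?_⟩
    rintro v ⟨t, ht⟩
    rw [Points.ofPt_eq_map_ofScheme φ t] at ht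
    obtain ⟨q, hq, -⟩ := exists_of_isPullback sqQ v (Points.ofScheme T t) ht.symm
    exact ⟨q, hq⟩
  obtain ⟨Q₁, c₁, hQ₁, hc₁, hin₁⟩ := piece φ₁ hφ₁ W₁ hW₁ hpre₁
  obtain ⟨Q₂, c₂, hQ₂, hc₂, hin₂⟩ := piece φ₂ hφ₂ W₂ hW₂ hpre₂
  have hcover : Set.range (Points.map c₁) ∪ Set.range (Points.map c₂) = Set.univ := by
    refine Set.eq_univ_of_forall fun v => ?_
    rcases (hcov ▸ Set.mem_univ (Points.map j.hom v) : Points.map j.hom v ∈ _) with h | h
    · exact Or.inl (hin₁ v (hr e₁ i₁.hom _ h))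
    · exact Or.inr (hin₂ v (hr e₂ i₂.hom _ h))
  have hVqc : IsQuasiCompactSp V.obj := isQuasiCompactSp_of_compactSpace V.property ⟨by
    have := compactSpace_yon Q₁
    have := compactSpace_yon Q₂
    rw [← hcover]
    exact (isCompact_range (Points.continuous_map c₁)).union (isCompact_range (Points.continuous_map c₂))⟩
  obtain ⟨W, -, ⟨eW⟩⟩ := exists_affine_of_union (X := V) (Z := (ofScheme S).obj Q₁) (Z' := (ofScheme S).obj Q₂)
    hVqc (Groth.Agent.AlgSpEN.isQuasiSeparatedSp_of_openImmersion j hj hqs) (isReducedSp_of_open hred j hj)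
    hc₁ hc₂ (Iso.refl _) (Iso.refl _) hcover
  refine ⟨V, j, hj, isRepresentable_of_iso eW, ?_⟩
  rw [← ht₁]
  exact (hpre₁ _).2 hw₁

/-- A minimal non-scheme is reduced and irreducible. -/
theorem reduced_irreducible [QuasiSeparatedSpace ↥S] (hqs : IsQuasiSeparatedSp X.obj)
    (hX : ¬ X.obj.obj.IsRepresentable)
    (hmin : ∀ (Z : Space S) (i : Z ⟶ X), RepWith @IsClosedImmersion i.hom → ¬ IsIso i → Z.obj.obj.IsRepresentable) :
    IsReducedSp X.obj ∧ IrreducibleSpace (Points X.obj) := by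
  have hred : IsReducedSp X.obj := by
    obtain ⟨Z, i, hZ, hi⟩ := exists_redInduced X.property Set.univ isClosed_univ
    by_cases hiso : IsIso i
    · obtain ⟨W, c, hc, hcs, hW⟩ := hi.2.2
      exact ⟨W, c ≫ i, MorphismProperty.RespectsIso.postcomp _ i _ hc,
        MorphismProperty.RespectsIso.postcomp _ i _ hcs, hW⟩
    · refine (hX (Groth.Agent.S10045.result S X ⟨Z, hZ⟩ (ObjectProperty.homMk i) hi
        (hmin ⟨Z, hZ⟩ (ObjectProperty.homMk i) hi.1 fun h => hiso ?_))).elim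
      haveI := h
      exact (inferInstance : IsIso ((ObjectProperty.ι _).map (ObjectProperty.homMk i : (⟨Z, hZ⟩ : Space S) ⟶ X)))
  refine ⟨hred, ?_⟩
  have hne : Nonempty (Points X.obj) := by
    by_contra h
    exact hX (GrpField.isRepresentable_of_forall_nhd X fun x => (h ⟨x⟩).elim)
  have hpre : IsPreirreducible (Set.univ : Set (Points X.obj)) := by
    rw [isPreirreducible_iff_isClosed_union_isClosed]
    intro C₁ C₂ hC₁ hC₂ hsub
    by_contra h
    rw [not_or, Set.univ_subset_iff, Set.univ_subset_iff] at h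
    have hcl : ∀ C, IsClosed C → C ≠ Set.univ → ∃ (Z : Space S) (i : Z ⟶ X), RepWith @IsClosedImmersion i.hom ∧
        Z.obj.obj.IsRepresentable ∧ Set.range (Points.map i.hom) = C := by
      intro C hC hne'
      obtain ⟨Z, i, hZ, hi⟩ := exists_redInduced X.property C hC
      refine ⟨⟨Z, hZ⟩, ObjectProperty.homMk i, hi.1, hmin _ _ hi.1 fun hiso => hne' ?_, hi.2.1⟩
      rw [← hi.2.1]
      let i' : (⟨Z, hZ⟩ : Space S) ⟶ X := ObjectProperty.homMk i
      haveI : IsIso i' := hiso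
      have : IsIso i := inferInstanceAs (IsIso ((ObjectProperty.ι _).map i'))
      exact Set.eq_univ_of_forall fun x => ⟨Points.map (inv i) x, by rw [← Points.map_comp, IsIso.inv_hom_id, Points.map_id]⟩
    obtain ⟨Z₁, i₁, hi₁, hr₁, he₁⟩ := hcl C₁ hC₁ h.1
    obtain ⟨Z₂, i₂, hi₂, hr₂, he₂⟩ := hcl C₂ hC₂ h.2
    refine hX (GrpField.isRepresentable_of_forall_nhd X fun x => ?_)
    by_cases hx₂ : x ∈ C₂
    · by_cases hx₁ : x ∈ C₁
      · exact exists_nhd_of_common hqs hred i₁ i₂ hi₁ hi₂ hr₁ hr₂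
          (by rw [he₁, he₂]; exact Set.univ_subset_iff.1 hsub) x (he₁ ▸ hx₁) (he₂ ▸ hx₂)
      · exact exists_nhd_of_avoid hred i₂ hi₂ hr₂ hC₁
          (fun y hy => he₂ ▸ (hsub (Set.mem_univ y)).resolve_left hy) x hx₁
    · exact exists_nhd_of_avoid hred i₁ hi₁ hr₁ hC₂
        (fun y hy => he₁ ▸ (hsub (Set.mem_univ y)).resolve_right hy) x hx₂
  exact @IrreducibleSpace.mk _ _ ⟨hpre⟩ hne

end Groth.Agent.AlgSpB.ClosedUnion
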