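import Groth.Agent.AlgSpEN.PushVanish
import Groth.Agent.AlgSpEN.SerreCriterion
import Groth.Agent.AlgSpQC.ClosedImm
import Groth.Agent.AlgSp.SchImageRep
import Groth.Agent.S10732
import Groth.Agent.AlgSpQC.Finite

/-!
# A reduced space covered by two affine closed subspaces is affine
-/

universe u

open CategoryTheory CategoryTheory.Limits AlgebraicGeometry Opposite TensorProduct CategoryTheory.Abelian

set_option backward.isDefEq.respectTransparency false
set_option backward.isDefEq.respectTransparency.types false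
set_option autoImplicit false

noncomputable section

namespace Groth.Agent.AlgSpB.ClosedUnion

open _root_.AlgSp Groth.Agent.AlgSpQC Groth.Agent.AlgSpEN

variable {S : Scheme.{u}} {Z X : Space S} {i : Z.obj ⟶ X.obj}

/-- The unit of a closed subspace is surjective on affine objects. -/
theorem surjective_hs_pullUnit (hi : RepWith @IsClosedImmersion i) (F : ModEt X.obj) [F.IsQuasicoherent]
    (E : EtOver X.obj) [IsAffine E.obj.left.left] : Function.Surjective (hs (pullUnit hi.1 F) E) := by
  have := isAffine_bcO_and_map (hf := hi.1) (isAffineMor_of_isFiniteMor (isFiniteMor_of_closedImm hi)) E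
  let h : bcO hi.1 E ⟶ bcO hi.1 E := 𝟙 _
  let e : sectModEt ((pushModEt hi.1).obj (pullQC hi.1 F)) E →+ PT F h :=
    (pullEv F h).comp (pushSect hi.1 (pullQC hi.1 F) E).toAddMonoidHom
  have he : Function.Bijective e := (bijective_pullEv h).comp (pushSect hi.1 (pullQC hi.1 F) E).bijective
  have hu : ∀ n, e (hs (pullUnit hi.1 F) E n) = tm h 1 n := fun n => by
    rw [← pullEv_unit (G := F) h n, rs_id]
    rfl
  choose a ha using surjective_gπ hi E
  intro y
  obtain ⟨n, hn⟩ : ∃ n : sectModEt F E, tm h 1 n = e y := by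
    induction e y using PT.induction with
    | zero => exact ⟨0, TensorProduct.tmul_zero _ (show RZ h from 1)⟩
    | tm r n =>
      refine ⟨a r • n, ?_⟩
      rw [← tm_smul, mul_one]
      exact congrArg (fun t => tm h t n) (ha r)
    | add p q hp hq =>
      obtain ⟨n₁, h₁⟩ := hp
      obtain ⟨n₂, h₂⟩ := hq
      exact ⟨n₁ + n₂, (tm_add_right 1 n₁ n₂).trans (congrArg₂ _ h₁ h₂)⟩
  exact ⟨n, he.1 ((hu n).trans hn)⟩

/-- A function killing the ideal of a closed subspace kills the kernel of its unit. -/
theorem smul_eq_zero_of_hs_pullUnit (hi : RepWith @IsClosedImmersion i) (F : ModEt X.obj) [F.IsQuasicoherent]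
    (E : EtOver X.obj) [IsAffine E.obj.left.left] (b : gr E) (hb : ∀ a, gπ hi.1 E a = 0 → b * a = 0)
    (m : sectModEt F E) (hm : hs (pullUnit hi.1 F) E m = 0) : b • m = 0 := by
  have := isAffine_bcO_and_map (hf := hi.1) (isAffineMor_of_isFiniteMor (isFiniteMor_of_closedImm hi)) E
  let h : bcO hi.1 E ⟶ bcO hi.1 E := 𝟙 _
  let e : sectModEt ((pushModEt hi.1).obj (pullQC hi.1 F)) E →+ PT F h :=
    (pullEv F h).comp (pushSect hi.1 (pullQC hi.1 F) E).toAddMonoidHom
  have hu : ∀ n, e (hs (pullUnit hi.1 F) E n) = tm h 1 n := fun n => by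
    rw [← pullEv_unit (G := F) h n, rs_id]
    rfl
  choose a ha using surjective_gπ hi E
  have hlift : ∀ c r, gπ hi.1 E c = r → ∀ n : sectModEt F E, (b * a r) • n = (b * c) • n := fun c r hc n => by
    rw [← sub_eq_zero, ← sub_smul, ← mul_sub, hb _ (by rw [map_sub, ha, hc, sub_self]), zero_smul]
  obtain ⟨Φ, hΦ⟩ := exists_lift (G := F) (h := h) (fun r n => (b * a r) • n)
    (fun r r' n => by rw [← add_smul, ← mul_add]; exact hlift _ _ (by rw [map_add, ha, ha]) n)
    (fun r n n' => smul_add _ _ _) fun c r n => by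
      rw [← mul_smul (b * a r) c n, mul_assoc]
      exact hlift _ _ (by rw [map_mul, ha, mul_comm]; rfl) n
  have h0 : tm h 1 m = 0 := by rw [← hu, hm, map_zero]
  have := hΦ 1 m
  rw [h0, map_zero, hlift 1 1 (map_one _), mul_one] at this
  exact this.symm

theorem shortExact_toAb {T : ShortComplex (ModEt X.obj)} (hT : T.ShortExact) :
    (T.map (toAbEt X.obj)).ShortExact := by
  have := hT.mono_f
  have := hT.epi_g
  let G := toAbEt X.obj
  have : G.PreservesZeroMorphisms := inferInstance
  have hm : Mono (G.map T.f) := inferInstance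
  have he : Epi (G.map T.g) := by
    suffices Sheaf.IsLocallySurjective (G.map T.g) from inferInstance
    constructor
    intro E y
    obtain ⟨R, hR, hy⟩ := exists_local_lift T.g (E := E) y
    exact (etTop X.obj).superset_covering (fun Z g hg => hy Z g hg) hR
  exact { exact := hT.exact.map_of_mono_of_preservesKernel G inferInstance inferInstance, mono_f := hm, epi_g := he }

theorem subsingleton_X₂ {T : ShortComplex (ModEt X.obj)} (hT : T.ShortExact) {q : ℕ}
    (h₁ : Subsingleton (HModEt X.obj T.X₁ q)) (h₃ : Subsingleton (HModEt X.obj T.X₃ q)) :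
    Subsingleton (HModEt X.obj T.X₂ q) := subsingleton_of_forall_eq 0 fun x => by
  obtain ⟨y, hy⟩ := Ext.covariant_sequence_exact₂ ((constantSheaf (etTop X.obj) AddCommGrpCat.{u + 1}).obj (AddCommGrpCat.of (ULift.{u + 1} ℤ)))
    (shortExact_toAb hT) x (h₃.elim _ _)
  rw [← hy, h₁.elim y 0, Ext.zero_comp]

/-- Cohomology vanishing passes along isomorphisms. -/
theorem subsingleton_of_iso {M N : ModEt X.obj} (e : M ≅ N) {q : ℕ} (h : Subsingleton (HModEt X.obj M q)) :
    Subsingleton (HModEt X.obj N q) :=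
  subsingleton_of_forall_eq 0 fun x => by
    have e' : 𝟙 ((toAbEt X.obj).obj N) = (toAbEt X.obj).map e.inv ≫ (toAbEt X.obj).map e.hom := by
      rw [← Functor.map_comp, Iso.inv_hom_id, CategoryTheory.Functor.map_id]
    rw [← x.comp_mk₀_id, e', ← Ext.mk₀_comp_mk₀, ← Ext.comp_assoc_of_third_deg_zero,
      h.elim (x.comp _ _) 0, Ext.zero_comp]

variable (hqc : IsQuasiCompactSp X.obj)

include hqc in
/-- Direct images from an affine closed subspace have no cohomology. -/
theorem subsingleton_push {T : Over S} [IsAffine T.left] (e : (yon S).obj T ≅ Z.obj)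
    (hi : RepWith @IsClosedImmersion i) (G : ModEt Z.obj) [G.IsQuasicoherent] :
    Subsingleton (HModEt X.obj ((pushModEt hi.1).obj G) 1) := by
  obtain ⟨U, hUa, hU, hUs⟩ := SerreC.exists_atlas hqc
  let E₀ : EtOver Z.obj := EtOver.mk e.hom (Groth.Agent.AlgSp.SchImageRep.repWith_of_isIso @Etale e.hom)
  have : IsIso E₀.obj.hom := inferInstanceAs (IsIso e.hom)
  have : IsAffine E₀.obj.left.left := ‹IsAffine T.left›
  exact PushVanish.subsingleton_HEt_push hi.1 (isAffineMor_of_isFiniteMor (isFiniteMor_of_closedImm hi)) E₀ U hU hUs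
    (F := (toAbEt Z.obj).obj G) (Amitsur.cech_qc G) 0

variable {Z' : Space S} {i' : Z'.obj ⟶ X.obj}

set_option maxHeartbeats 1600000 in
include hqc in
/-- A space covered by two affine closed subspaces with vanishing product of ideals is affine. -/
theorem exists_affine_of_mul_eq_zero [QuasiSeparatedSpace ↥S] (hqs : IsQuasiSeparatedSp X.obj)
    (hi : RepWith @IsClosedImmersion i) (hi' : RepWith @IsClosedImmersion i')
    {T T' : Over S} [IsAffine T.left] [IsAffine T'.left] (e : (yon S).obj T ≅ Z.obj) (e' : (yon S).obj T' ≅ Z'.obj)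
    (h0 : ∀ (E : EtOver X.obj), IsAffine E.obj.left.left → ∀ a b, gπ hi.1 E a = 0 → gπ hi'.1 E b = 0 → a * b = 0) :
    ∃ W : Over S, IsAffine W.left ∧ Nonempty ((yon S).obj W ≅ X.obj) := by
  refine Groth.Agent.S10732.result X hqc hqs fun M hM => ?_
  obtain ⟨U, hUa, hU, hUs⟩ := SerreC.exists_atlas hqc
  let u := pullUnit hi.1 M
  have := isQuasicoherent_pullQC hi.1 M
  have := isQuasicoherent_push_affine (hf := hi.1) (isAffineMor_of_isFiniteMor (isFiniteMor_of_closedImm hi))
    (pullQC hi.1 M)
  have := SerreC.epi_of_surjective hU u (surjective_hs_pullUnit hi M U)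
  have := isQuasicoherent_kernel u
  let J := idealOfRep hi'.1
  have hK : ∀ (E : EtOver X.obj) (hE : IsAffine E.obj.left.left) (s : sectModEt (kernel u) E), J.ideal E hE ≤ annSect s := by
    intro E hE s b hb
    rw [mem_annSect_iff]
    change b • s = 0
    apply hs_injective (kernel.ι u) E
    rw [map_smul, map_zero]
    refine smul_eq_zero_of_hs_pullUnit hi M E b (fun a ha => by
      rw [mul_comm]; exact h0 E hE a b ha (RingHom.mem_ker.1 hb)) _ ?_
    rw [← hs_comp, kernel.condition]
    rfl
  have := isIso_pullUnit hi' J ⟨hi', rfl⟩ hK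
  have := isQuasicoherent_pullQC hi'.1 (kernel u)
  have h₁ : Subsingleton (HModEt X.obj (kernel u) 1) :=
    subsingleton_of_iso (asIso (pullUnit hi'.1 (kernel u))).symm (subsingleton_push hqc e' hi' _)
  exact subsingleton_X₂ (T := ShortComplex.mk (kernel.ι u) u (kernel.condition u))
    { exact := ShortComplex.exact_of_f_is_kernel _ (kernelIsKernel u) } h₁ (subsingleton_push hqc e hi _)

include hqc in
/-- A reduced space covered by two affine closed subspaces is affine. -/
theorem exists_affine_of_union [QuasiSeparatedSpace ↥S] (hqs : IsQuasiSeparatedSp X.obj) (hred : IsReducedSp X.obj)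
    (hi : RepWith @IsClosedImmersion i) (hi' : RepWith @IsClosedImmersion i')
    {T T' : Over S} [IsAffine T.left] [IsAffine T'.left] (e : (yon S).obj T ≅ Z.obj) (e' : (yon S).obj T' ≅ Z'.obj)
    (hcov : Set.range (Points.map i) ∪ Set.range (Points.map i') = Set.univ) :
    ∃ W : Over S, IsAffine W.left ∧ Nonempty ((yon S).obj W ≅ X.obj) := by
  refine exists_affine_of_mul_eq_zero hqc hqs hi hi' e e' fun E hE a b ha hb => ?_
  have hER : IsReduced E.obj.left.left := Groth.Agent.AlgSp.SchImageRep.isReduced_chart X.property hred E.obj.hom E.property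
  have key : ∀ {W : Space S} (j : W.obj ⟶ X.obj) (hj : RepWith @IsClosedImmersion j) (c : gr E), gπ hj.1 E c = 0 →
      ∀ v : E.obj.left.left, Points.ofPt E.obj.hom v ∈ Set.range (Points.map j) →
        v ∉ E.obj.left.left.basicOpen c := by
    intro W j hj c hc v hv hvc
    have : v ∈ Set.range (EtOver.bcπ hj.1 E).left := by
      rw [Groth.Agent.AlgSpB.range_snd_eq (EtOver.isPullback_bcObj hj.1 E)]
      exact hv
    obtain ⟨w, rfl⟩ := this
    have hw : w ∈ (EtOver.bcπ hj.1 E).left ⁻¹ᵁ E.obj.left.left.basicOpen c := hvc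
    rw [Scheme.preimage_basicOpen, show (EtOver.bcπ hj.1 E).left.app ⊤ c = 0 from hc, Scheme.basicOpen_zero] at hw
    exact hw
  apply eq_zero_of_basicOpen_eq_bot
  rw [Scheme.basicOpen_mul, eq_bot_iff]
  intro v hv
  rcases (hcov ▸ Set.mem_univ (Points.ofPt E.obj.hom v) : Points.ofPt E.obj.hom v ∈ _) with h | h
  · exact (key i hi a ha v h hv.1).elim
  · exact (key i' hi' b hb v h hv.2).elim

end Groth.Agent.AlgSpB.ClosedUnion
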